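import Cfsg.Agent.R2.PX.DdI
import Cfsg.Agent.R2.PX.Tr4

/-!
# MU27 (S5771): the map `DD` over every field (helper27)

* `del_inj` : the 56-dimensional module of the Lie algebra is faithful, over every field;
* `equi : Equi F` : `DD F (V g x) (V g y) * rho g = rho g * DD F x y`, over every field;
* `DD_V`, `dd_equi`, `dd_L` (`2 ≠ 0`);
* `ident` : `DD x y z - DD x z y = 2 sf(y, z) x + sf(x, z) y - sf(x, y) z`, over every field.
-/

set_option autoImplicit false
set_option maxRecDepth 100000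

namespace Cfsg.Agent.R2.T1.Mu

open Cfsg Cfsg.Lie Matrix
open Cfsg.Agent.R2.T1 Cfsg.Agent.R2.PX
open Cfsg.Agent.H943.E7V.Block (D1 rho)

universe u

/-! ### faithfulness -/

section
variable {F : Type u} [Field F]

theorem del_entry (z : chevE7.Idx → F) {s : ℕ} (hs : s < 126) {a b : D1} {c : ℤ} (h : mv s (nn b) = some (nn a, c)) :
    del F z a b = z (Sum.inr ⟨s, hs⟩) * (c : F) := by
  have hab : a ≠ b := by
    rintro rfl
    have := p2_of_mv hs h
    rw [p2_self] at this
    omega
  rw [del_apply, Matrix.add_apply, Matrix.sum_apply, Matrix.sum_apply, Finset.sum_eq_zero, zero_add,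
    Finset.sum_eq_single ⟨s, hs⟩]
  · rw [Matrix.smul_apply, smul_eq_mul]
    show _ * ((nz s a b : ℤ) : F) = _
    rw [nz_some h, if_pos rfl]
  · intro r' _ hne
    rw [Matrix.smul_apply, smul_eq_mul]
    show _ * ((nz r' a b : ℤ) : F) = 0
    by_cases h0 : nz r' a b = 0
    · rw [h0, Int.cast_zero, mul_zero]
    · obtain ⟨c', h1, -⟩ := nz_ne h0
      exact absurd (Fin.ext (mv_unique r'.2 hs h1 h)) hne
  · intro h1; exact absurd (Finset.mem_univ _) h1
  · intro i _
    rw [Matrix.smul_apply, Hi, Matrix.diagonal_apply_ne _ hab, smul_zero]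

/-- the module of the Lie algebra is faithful -/
theorem del_inj {z : chevE7.Idx → F} (h : del F z = 0) : z = 0 := by
  have hr : ∀ s : Fin chevE7.nroots, z (Sum.inr s) = 0 := by
    intro s
    have hs : (s : ℕ) < 126 := s.2
    obtain ⟨a, b, c, h1, h2⟩ := Tr.exists_entry hs
    have h3 := del_entry z hs h1
    rw [h, Matrix.zero_apply] at h3
    exact (mul_eq_zero.1 h3.symm).resolve_right (cast_ne h2)
  have hb : ∀ b : D1, ∑ i : Fin chevE7.rank, z (Sum.inl i) * ((chevE8.cartan i (nn b) : ℤ) : F) = 0 := by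
    intro b
    have h1 : (del F z *ᵥ bs F b) b = 0 := by rw [h, Matrix.zero_mulVec]; rfl
    rw [del_apply] at h1
    simp only [hr, zero_smul, Finset.sum_const_zero, add_zero] at h1
    rw [Matrix.sum_mulVec, Finset.sum_apply] at h1
    rw [← h1]
    refine Finset.sum_congr rfl fun i _ => ?_
    rw [Matrix.smul_mulVec, Pi.smul_apply, Hi_mulVec, bs_self, mul_one, smul_eq_mul]
  funext j
  rcases j with i | s
  · have h1 : ∑ k : Fin 7, (((bi.getD i []).getD k 0 : ℤ) : F) *
        ∑ j : Fin chevE7.rank, z (Sum.inl j) * ((chevE8.cartan j (nn (bd k)) : ℤ) : F) = 0 :=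
      Finset.sum_eq_zero fun k _ => by rw [hb, mul_zero]
    have h2 : ∀ j : Fin chevE7.rank, ∑ k : Fin 7, (((bi.getD i []).getD k 0 : ℤ) : F) *
        ((chevE8.cartan j (nn (bd k)) : ℤ) : F) = if (i : ℕ) = (j : ℕ) then 1 else 0 := by
      intro j
      have h3 := bi_bw i i.2 j j.2
      have h4 : ((List.range 7).map fun k => (bi.getD i []).getD k 0 * chevE8.cartan j (bw.getD k 0)).sum =
          ∑ k : Fin 7, (bi.getD i []).getD k 0 * chevE8.cartan j (bw.getD k 0) := by
        rw [sum_range7]; rfl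
      rw [h4] at h3
      have h5 : ∑ k : Fin 7, (((bi.getD i []).getD k 0 : ℤ) : F) * ((chevE8.cartan j (nn (bd k)) : ℤ) : F) =
          ((∑ k : Fin 7, (bi.getD i []).getD k 0 * chevE8.cartan j (bw.getD k 0) : ℤ) : F) := by
        rw [Int.cast_sum]
        refine Finset.sum_congr rfl fun k _ => ?_
        rw [Int.cast_mul]
        rfl
      rw [h5, h3]
      split_ifs <;> simp
    simp only [Finset.mul_sum] at h1
    rw [Finset.sum_comm] at h1
    have h6 : ∀ j : Fin chevE7.rank, ∑ k : Fin 7, (((bi.getD i []).getD k 0 : ℤ) : F) *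
        (z (Sum.inl j) * ((chevE8.cartan j (nn (bd k)) : ℤ) : F)) = if i = j then z (Sum.inl j) else 0 := by
      intro j
      have : ∀ k : Fin 7, (((bi.getD i []).getD k 0 : ℤ) : F) *
        (z (Sum.inl j) * ((chevE8.cartan j (nn (bd k)) : ℤ) : F)) = z (Sum.inl j) * ((((bi.getD i []).getD k 0 : ℤ) : F) *
          ((chevE8.cartan j (nn (bd k)) : ℤ) : F)) := fun k => by ring
      rw [Finset.sum_congr rfl fun k _ => this k, ← Finset.mul_sum, h2 j]
      by_cases hij : i = j
      · rw [if_pos hij, if_pos (by rw [hij]), mul_one]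
      · rw [if_neg hij, if_neg fun h => hij (Fin.ext h), mul_zero]
    rw [Finset.sum_congr rfl fun j _ => h6 j, Finset.sum_ite_eq, if_pos (Finset.mem_univ _)] at h1
    exact h1
  · exact hr s

theorem del_injective : Function.Injective (del F) := by
  intro z w h
  have h1 : del F (z - w) = 0 := by rw [map_sub, h, sub_self]
  exact sub_eq_zero.1 (del_inj h1)

theorem dd_eq_zero_iff (x y : D1 → F) : dd x y = 0 ↔ DD F x y = 0 := by
  constructor
  · intro h; rw [← del_dd, h, map_zero]
  · intro h; rw [← del_dd] at h; exact del_inj h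

/-! ### equivariance if `24 ≠ 0` -/

theorem dd_equi_24 (h2 : (2 : F) ≠ 0) (h24 : (24 : F) ≠ 0) (g : Gh F) (x y : D1 → F) :
    adM F g *ᵥ dd x y = dd (V F g x) (V F g y) := by
  have hg : rho F g⁻¹ * rho F g = 1 := by rw [← map_mul, inv_mul_cancel, map_one]
  have hg' : rho F g * rho F g⁻¹ = 1 := by rw [← map_mul, mul_inv_cancel, map_one]
  have h24' : (-24 : F) ≠ 0 := neg_ne_zero.2 h24
  rw [← sub_eq_zero]
  apply del_inj
  have key : ∀ z : chevE7.Idx → F, (∀ x y, Matrix.trace (del F z * DD F x y) = 0) → del F z = 0 := by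
    intro z h
    refine mat_ext fun b => ?_
    rw [Matrix.zero_mulVec]
    refine sf_nondeg' fun y => ?_
    have h1 := h (bs F b) y
    rw [trace_del_DD] at h1
    exact (mul_eq_zero.1 h1).resolve_left h24'
  apply key
  intro u v
  rw [map_sub, Matrix.sub_mul, Matrix.trace_sub, sub_eq_zero]
  set w := dd u v with hw
  rw [← del_dd u v, ← hw]
  have e1 : del F (adM F g *ᵥ dd x y) = rho F g * del F (dd x y) * rho F g⁻¹ := by
    rw [del_equi h2 g (dd x y), Matrix.mul_assoc, hg', Matrix.mul_one]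
  have e2 : rho F g⁻¹ * del F w * rho F g = del F (adM F g⁻¹ *ᵥ w) := by
    rw [del_equi h2 g⁻¹ w, Matrix.mul_assoc, hg, Matrix.mul_one]
  calc Matrix.trace (del F (adM F g *ᵥ dd x y) * del F w)
      = Matrix.trace (rho F g⁻¹ * del F w * rho F g * del F (dd x y)) := by
        rw [e1, Matrix.mul_assoc, Matrix.mul_assoc, Matrix.trace_mul_comm, Matrix.mul_assoc, Matrix.trace_mul_comm]
    _ = -24 * sf F ((rho F g⁻¹ * del F w * rho F g) *ᵥ x) y := by rw [e2, del_dd, trace_del_DD]
    _ = -24 * sf F (V F g ((rho F g⁻¹ * del F w * rho F g) *ᵥ x)) (V F g y) := by rw [sf_V]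
    _ = -24 * sf F (del F w *ᵥ V F g x) (V F g y) := by
        congr 3
        rw [V_apply, V_apply, Matrix.mulVec_mulVec, Matrix.mulVec_mulVec, ← Matrix.mul_assoc, ← Matrix.mul_assoc, hg',
          Matrix.one_mul]
    _ = _ := by rw [← trace_del_DD, ← del_dd, Matrix.trace_mul_comm]

theorem equi_24 (h2 : (2 : F) ≠ 0) (h24 : (24 : F) ≠ 0) : Equi F := by
  intro g x y
  rw [← del_dd, ← dd_equi_24 h2 h24, ← del_equi h2, del_dd]

end

/-! ### integral matrices -/

/-- the integral matrix of a root vector -/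
def NZ (r : ℕ) : Matrix D1 D1 ℤ := Matrix.of fun a b => nz r a b

/-- the integral form -/
noncomputable def sz (x y : D1 → ℤ) : ℤ := ∑ a, x a * (ep a * y (op a))

/-- the integral `DD` -/
noncomputable def DZ (x y : D1 → ℤ) : Matrix D1 D1 ℤ :=
  (-2 : ℤ) • (∑ r ∈ Finset.range 126, sz (NZ (125 - r) *ᵥ x) y • NZ r) -
    Matrix.diagonal fun c => ∑ a : D1, x a * ep a * y (op a) * p2 a c

section
variable (F : Type u) [Field F]

/-- the image of an integral vector -/
def cz (x : D1 → ℤ) : D1 → F := fun a => (x a : F)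

variable {F}

theorem NZ_map (r : ℕ) : (NZ r).map (Int.castRingHom F) = NM F r := rfl

theorem cz_mulVec (r : ℕ) (x : D1 → ℤ) : cz F (NZ r *ᵥ x) = NM F r *ᵥ cz F x := by
  funext a
  show (((NZ r *ᵥ x) a : ℤ) : F) = _
  rw [Matrix.mulVec, Matrix.mulVec, dotProduct, dotProduct, Int.cast_sum]
  refine Finset.sum_congr rfl fun b _ => ?_
  rw [Int.cast_mul]
  rfl

theorem sf_cz (x y : D1 → ℤ) : sf F (cz F x) (cz F y) = ((sz x y : ℤ) : F) := by
  rw [sf_sum, sz, Int.cast_sum]
  refine Finset.sum_congr rfl fun b _ => ?_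
  rw [Int.cast_mul, Int.cast_mul]
  rfl

theorem DD_cz (x y : D1 → ℤ) : DD F (cz F x) (cz F y) = (DZ x y).map (Int.castRingHom F) := by
  ext b c
  rw [DD_eq, Matrix.map_apply, DZ, Matrix.sub_apply, Matrix.sub_apply, map_sub]
  congr 1
  · rw [Matrix.smul_apply, Matrix.smul_apply, smul_eq_mul, smul_eq_mul, map_mul, Matrix.sum_apply, Matrix.sum_apply,
      map_sum]
    congr 1
    · simp
    · refine Finset.sum_congr rfl fun r _ => ?_
      rw [Matrix.smul_apply, Matrix.smul_apply, smul_eq_mul, smul_eq_mul, map_mul, ← cz_mulVec, sf_cz]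
      rfl
  · by_cases hbc : b = c
    · rw [hbc, Matrix.diagonal_apply_eq, Matrix.diagonal_apply_eq, map_sum]
      refine Finset.sum_congr rfl fun a _ => ?_
      rw [map_mul, map_mul, map_mul]
      rfl
    · rw [Matrix.diagonal_apply_ne _ hbc, Matrix.diagonal_apply_ne _ hbc, map_zero]

theorem bs_cz (a : D1) : bs F a = cz F (Pi.single a 1) := by
  funext b
  show _ = (((Pi.single a 1 : D1 → ℤ) b : ℤ) : F)
  by_cases h : b = a
  · rw [h, bs_self, Pi.single_eq_same, Int.cast_one]
  · rw [PX.bs_ne h, Pi.single_eq_of_ne h, Int.cast_zero]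

end

theorem map_inj_rat {A B : Matrix D1 D1 ℤ} (h : A.map (Int.castRingHom ℚ) = B.map (Int.castRingHom ℚ)) : A = B := by
  ext a b
  have := congrFun (congrFun h a) b
  rw [Matrix.map_apply, Matrix.map_apply] at this
  exact Int.cast_injective this

/-- the identities over `ℚ` -/
theorem rat_ident {r : ℕ} (hr : r < 126) (x y : D1 → ℚ) :
    (DD ℚ (NM ℚ r *ᵥ x) y + DD ℚ x (NM ℚ r *ᵥ y) + DD ℚ x y * NM ℚ r = NM ℚ r * DD ℚ x y) ∧
    (DD ℚ (NM ℚ r *ᵥ x) (NM ℚ r *ᵥ y) + (DD ℚ (NM ℚ r *ᵥ x) y + DD ℚ x (NM ℚ r *ᵥ y)) * NM ℚ r = 0) ∧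
    DD ℚ (NM ℚ r *ᵥ x) (NM ℚ r *ᵥ y) * NM ℚ r = 0 := by
  set N := NM ℚ r with hN
  set A := DD ℚ x y with hA
  set B := DD ℚ (N *ᵥ x) y + DD ℚ x (N *ᵥ y) with hB
  set C := DD ℚ (N *ᵥ x) (N *ᵥ y) with hC
  have key : ∀ t : ℚ, t • (B + A * N - N * A) + (t ^ 2) • (C + B * N) + (t ^ 3) • (C * N) = 0 := by
    intro t
    have h := equi_24 (F := ℚ) (by norm_num) (by norm_num) (xs ℚ r t) x y
    rw [V_xs hr, V_xs hr, rho_xs' hr, DD_add_left, DD_add_right, DD_add_right, DD_smul_left, DD_smul_left, DD_smul_right,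
      DD_smul_right] at h
    have h' : (A + t • DD ℚ x (N *ᵥ y) + (t • DD ℚ (N *ᵥ x) y + t • t • C)) * (1 + t • N) = (1 + t • N) * A := h
    have h2 : A + t • DD ℚ x (N *ᵥ y) + (t • DD ℚ (N *ᵥ x) y + t • t • C) = A + t • B + (t ^ 2) • C := by
      rw [hB, smul_add, smul_smul, pow_two]; abel
    rw [h2] at h'
    have h3 : (A + t • B + (t ^ 2) • C) * (1 + t • N) - (1 + t • N) * A = 0 := sub_eq_zero.2 h'
    rw [← h3]
    simp only [Matrix.add_mul, Matrix.mul_add, Matrix.mul_one, Matrix.one_mul, Matrix.smul_mul, Matrix.mul_smul, smul_add,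
      smul_sub, smul_smul]
    have e1 : t * t = t ^ 2 := by ring
    have e2 : t * t ^ 2 = t ^ 3 := by ring
    rw [e1, e2]
    abel
  have k1 := key 1
  have k2 := key (-1)
  have k3 := key 2
  set X := B + A * N - N * A
  set Y := C + B * N
  set Z := C * N
  have e1 : X + Y + Z = 0 := by simpa using k1
  have e2 : -X + Y - Z = 0 := by
    have : (-1 : ℚ) ^ 3 = -1 := by norm_num
    rw [this] at k2
    simpa [sub_eq_add_neg] using k2
  have e3 : (2 : ℚ) • X + (4 : ℚ) • Y + (8 : ℚ) • Z = 0 := by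
    have : (2 : ℚ) ^ 3 = 8 := by norm_num
    have h4 : (2 : ℚ) ^ 2 = 4 := by norm_num
    rw [this, h4] at k3
    exact k3
  have hY : Y = 0 := by
    have : (2 : ℚ) • Y = 0 := by
      have : (2 : ℚ) • Y = (X + Y + Z) + (-X + Y - Z) := by rw [two_smul]; abel
      rw [this, e1, e2, add_zero]
    exact (smul_eq_zero.1 this).resolve_left (by norm_num)
  rw [hY] at e1 e3
  have hX : X = -Z := by
    rw [add_zero] at e1
    exact eq_neg_of_add_eq_zero_left e1
  have hZ : Z = 0 := by
    rw [hX] at e3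
    have : (6 : ℚ) • Z = 0 := by
      rw [← e3]; module
    exact (smul_eq_zero.1 this).resolve_left (by norm_num)
  refine ⟨?_, hY, hZ⟩
  rw [hZ, neg_zero] at hX
  exact sub_eq_zero.1 hX

/-- the identities over `ℤ` -/
theorem int_ident {r : ℕ} (hr : r < 126) (x y : D1 → ℤ) :
    (DZ (NZ r *ᵥ x) y + DZ x (NZ r *ᵥ y) + DZ x y * NZ r = NZ r * DZ x y) ∧
    (DZ (NZ r *ᵥ x) (NZ r *ᵥ y) + (DZ (NZ r *ᵥ x) y + DZ x (NZ r *ᵥ y)) * NZ r = 0) ∧
    DZ (NZ r *ᵥ x) (NZ r *ᵥ y) * NZ r = 0 := by
  obtain ⟨h1, h2, h3⟩ := rat_ident hr (cz ℚ x) (cz ℚ y)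
  simp only [← cz_mulVec] at h1 h2 h3
  simp only [DD_cz] at h1 h2 h3
  simp only [← NZ_map] at h1 h2 h3
  refine ⟨map_inj_rat ?_, map_inj_rat ?_, map_inj_rat ?_⟩
  · rw [Matrix.map_add _ (fun a b => map_add _ a b), Matrix.map_add _ (fun a b => map_add _ a b), Matrix.map_mul,
      Matrix.map_mul]
    exact h1
  · rw [Matrix.map_add _ (fun a b => map_add _ a b), Matrix.map_mul, Matrix.map_add _ (fun a b => map_add _ a b),
      Matrix.map_zero _ (map_zero _)]
    exact h2
  · rw [Matrix.map_mul, Matrix.map_zero _ (map_zero _)]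
    exact h3

section
variable {F : Type u} [Field F]

/-- two bilinear maps which agree on the weight vectors -/
theorem bilin_ext {M : Type*} [AddCommGroup M] [Module F M] {f g : (D1 → F) →ₗ[F] (D1 → F) →ₗ[F] M}
    (h : ∀ a b, f (bs F a) (bs F b) = g (bs F a) (bs F b)) : f = g := by
  refine LinearMap.ext fun x => LinearMap.ext fun y => ?_
  rw [vec_sum x, vec_sum y]
  simp only [map_sum, LinearMap.sum_apply, map_smul, LinearMap.smul_apply, h]

theorem field_ident {r : ℕ} (hr : r < 126) (x y : D1 → F) :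
    (DD F (NM F r *ᵥ x) y + DD F x (NM F r *ᵥ y) + DD F x y * NM F r = NM F r * DD F x y) ∧
    (DD F (NM F r *ᵥ x) (NM F r *ᵥ y) + (DD F (NM F r *ᵥ x) y + DD F x (NM F r *ᵥ y)) * NM F r = 0) ∧
    DD F (NM F r *ᵥ x) (NM F r *ᵥ y) * NM F r = 0 := by
  set N := NM F r with hN
  set nl : (D1 → F) →ₗ[F] (D1 → F) := Matrix.mulVecLin N with hnl
  have hnla : ∀ v, nl v = N *ᵥ v := fun v => Matrix.mulVecLin_apply N v
  set T := DDL F with hT
  have hTa : ∀ u v, T u v = DD F u v := fun u v => DDL_apply u v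
  have base : ∀ a b : D1, _ := fun a b => int_ident hr (Pi.single a 1) (Pi.single b 1)
  have mm : ∀ A B : Matrix D1 D1 ℤ, (A * B).map (Int.castRingHom F) = A.map (Int.castRingHom F) * B.map (Int.castRingHom F) :=
    fun A B => Matrix.map_mul
  have ma : ∀ A B : Matrix D1 D1 ℤ, (A + B).map (Int.castRingHom F) = A.map (Int.castRingHom F) + B.map (Int.castRingHom F) :=
    fun A B => Matrix.map_add _ (fun a b => map_add _ a b) A B
  refine ⟨?_, ?_, ?_⟩
  · have h : T ∘ₗ nl + T.compl₂ nl + T.compr₂ (LinearMap.mulRight F N) = T.compr₂ (LinearMap.mulLeft F N) := by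
      refine bilin_ext fun a b => ?_
      simp only [LinearMap.add_apply, LinearMap.comp_apply, LinearMap.compl₂_apply, LinearMap.compr₂_apply, hnla, hTa,
        LinearMap.mulRight_apply, LinearMap.mulLeft_apply]
      rw [hN, bs_cz, bs_cz, ← cz_mulVec, ← cz_mulVec, DD_cz, DD_cz, DD_cz, ← NZ_map, ← ma, ← mm, ← ma, ← mm, (base a b).1]
    have := LinearMap.congr_fun₂ h x y
    simpa only [LinearMap.add_apply, LinearMap.comp_apply, LinearMap.compl₂_apply, LinearMap.compr₂_apply, hnla, hTa,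
        LinearMap.mulRight_apply, LinearMap.mulLeft_apply] using this
  · have h : (T ∘ₗ nl).compl₂ nl + (T ∘ₗ nl + T.compl₂ nl).compr₂ (LinearMap.mulRight F N) = 0 := by
      refine bilin_ext fun a b => ?_
      simp only [LinearMap.add_apply, LinearMap.comp_apply, LinearMap.compl₂_apply, LinearMap.compr₂_apply, hnla, hTa,
        LinearMap.mulRight_apply, LinearMap.zero_apply]
      rw [hN, bs_cz, bs_cz, ← cz_mulVec, ← cz_mulVec, DD_cz, DD_cz, DD_cz, ← NZ_map, ← ma, ← mm, ← ma, (base a b).2.1,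
        Matrix.map_zero _ (map_zero _)]
    have := LinearMap.congr_fun₂ h x y
    simpa only [LinearMap.add_apply, LinearMap.comp_apply, LinearMap.compl₂_apply, LinearMap.compr₂_apply, hnla, hTa,
        LinearMap.mulRight_apply, LinearMap.zero_apply] using this
  · have h : ((T ∘ₗ nl).compl₂ nl).compr₂ (LinearMap.mulRight F N) = 0 := by
      refine bilin_ext fun a b => ?_
      simp only [LinearMap.comp_apply, LinearMap.compl₂_apply, LinearMap.compr₂_apply, hnla, hTa,
        LinearMap.mulRight_apply, LinearMap.zero_apply]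
      rw [hN, bs_cz, bs_cz, ← cz_mulVec, ← cz_mulVec, DD_cz, ← NZ_map, ← mm, (base a b).2.2,
        Matrix.map_zero _ (map_zero _)]
    have := LinearMap.congr_fun₂ h x y
    simpa only [LinearMap.comp_apply, LinearMap.compl₂_apply, LinearMap.compr₂_apply, hnla, hTa,
        LinearMap.mulRight_apply, LinearMap.zero_apply] using this

/-- **equivariance of `DD`, over every field** -/
theorem equi (F : Type u) [Field F] : Equi F := by
  intro g
  let S : Subgroup (Gh F) :=
    { carrier := {g | ∀ x y : D1 → F, DD F (V F g x) (V F g y) * rho F g = rho F g * DD F x y}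
      one_mem' := by
        intro x y
        rw [map_one, map_one, Matrix.one_mul, Matrix.mul_one]
        rfl
      mul_mem' := by
        intro a b ha hb x y
        rw [map_mul, map_mul, Module.End.mul_apply, Module.End.mul_apply, ← Matrix.mul_assoc, ha, Matrix.mul_assoc, hb,
          ← Matrix.mul_assoc]
      inv_mem' := by
        intro a ha x y
        have h1 : rho F a⁻¹ * rho F a = 1 := by rw [← map_mul, inv_mul_cancel, map_one]
        have h2 : rho F a * rho F a⁻¹ = 1 := by rw [← map_mul, mul_inv_cancel, map_one]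
        have h3 := ha (V F a⁻¹ x) (V F a⁻¹ y)
        rw [V_inv', V_inv'] at h3
        calc DD F (V F a⁻¹ x) (V F a⁻¹ y) * rho F a⁻¹
            = rho F a⁻¹ * (rho F a * DD F (V F a⁻¹ x) (V F a⁻¹ y)) * rho F a⁻¹ := by
              rw [← Matrix.mul_assoc, h1, Matrix.one_mul]
          _ = rho F a⁻¹ * DD F x y * (rho F a * rho F a⁻¹) := by rw [← h3]; simp only [Matrix.mul_assoc]
          _ = _ := by rw [h2, Matrix.mul_one] }
  refine mem_of_gens (S := S) (fun r hr t => ?_) g
  intro x y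
  obtain ⟨h1, h2, h3⟩ := field_ident (F := F) hr x y
  rw [V_xs hr, V_xs hr, rho_xs' hr, DD_add_left, DD_add_right, DD_add_right, DD_smul_left, DD_smul_left, DD_smul_right,
    DD_smul_right, Matrix.add_mul (1 : Matrix D1 D1 F), Matrix.one_mul, Matrix.smul_mul t (NM F r) (DD F x y), ← h1]
  have h4 : t ^ 2 • (DD F (NM F r *ᵥ x) (NM F r *ᵥ y) + (DD F (NM F r *ᵥ x) y + DD F x (NM F r *ᵥ y)) * NM F r) = 0 := by
    rw [h2, smul_zero]
  have h5 : t ^ 3 • (DD F (NM F r *ᵥ x) (NM F r *ᵥ y) * NM F r) = 0 := by rw [h3, smul_zero]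
  rw [← sub_eq_zero]
  have h6 : (DD F x y + t • DD F x (NM F r *ᵥ y) + (t • DD F (NM F r *ᵥ x) y + t • t • DD F (NM F r *ᵥ x) (NM F r *ᵥ y))) *
      (1 + t • NM F r) - (DD F x y + t • (DD F (NM F r *ᵥ x) y + DD F x (NM F r *ᵥ y) + DD F x y * NM F r)) =
      t ^ 2 • (DD F (NM F r *ᵥ x) (NM F r *ᵥ y) + (DD F (NM F r *ᵥ x) y + DD F x (NM F r *ᵥ y)) * NM F r) +
      t ^ 3 • (DD F (NM F r *ᵥ x) (NM F r *ᵥ y) * NM F r) := by
    simp only [Matrix.add_mul, Matrix.mul_add, Matrix.mul_one, Matrix.smul_mul, Matrix.mul_smul, smul_add, smul_smul]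
    have e1 : t * t = t ^ 2 := by ring
    have e2 : t * (t * t) = t ^ 3 := by ring
    have e3 : t * t * t = t ^ 3 := by ring
    simp only [e1]
    have e4 : t * t ^ 2 = t ^ 3 := by ring
    have e5 : t ^ 2 * t = t ^ 3 := by ring
    simp only [e4]
    abel
  rw [h6, h4, h5, add_zero]

theorem DD_equi (g : Gh F) (x y : D1 → F) : DD F (V F g x) (V F g y) * rho F g = rho F g * DD F x y := equi F g x y

theorem DD_V (g : Gh F) (x y z : D1 → F) : DD F (V F g x) (V F g y) *ᵥ V F g z = V F g (DD F x y *ᵥ z) := by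
  rw [V_apply g z, V_apply g (DD F x y *ᵥ z), Matrix.mulVec_mulVec, Matrix.mulVec_mulVec, DD_equi]

theorem DD_conj (g : Gh F) (x y : D1 → F) : DD F (V F g x) (V F g y) = rho F g * DD F x y * rho F g⁻¹ := by
  rw [← DD_equi, Matrix.mul_assoc, ← map_mul, mul_inv_cancel, map_one, Matrix.mul_one]

theorem dd_equi (h2 : (2 : F) ≠ 0) (g : Gh F) (x y : D1 → F) : adM F g *ᵥ dd x y = dd (V F g x) (V F g y) := by
  apply del_injective
  have hg' : rho F g * rho F g⁻¹ = 1 := by rw [← map_mul, mul_inv_cancel, map_one]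
  have e1 : del F (adM F g *ᵥ dd x y) = rho F g * del F (dd x y) * rho F g⁻¹ := by
    rw [del_equi h2 g (dd x y), Matrix.mul_assoc, hg', Matrix.mul_one]
  rw [e1, del_dd, del_dd, DD_conj]

theorem dd_L (h2 : (2 : F) ≠ 0) (g : Gh F) (x y : D1 → F) : L F g (dd x y) = dd (V F g x) (V F g y) := by
  rw [L_adM, Matrix.toLin'_apply, dd_equi h2]

theorem del_L (h2 : (2 : F) ≠ 0) (g : Gh F) (z : chevE7.Idx → F) : del F (L F g z) = rho F g * del F z * rho F g⁻¹ := by
  rw [L_adM, Matrix.toLin'_apply, del_equi h2 g z, Matrix.mul_assoc, ← map_mul, mul_inv_cancel, map_one, Matrix.mul_one]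

/-! ### the identity (I) -/

theorem defc_equi (g : Gh F) (x y z : D1 → F) : defc (V F g x) (V F g y) (V F g z) = V F g (defc x y z) := by
  unfold defc
  simp only [DD_V, sf_V, map_sub, map_add, map_smul]

theorem defc_zero (x y z : D1 → F) : defc x y z = 0 := by
  set W : Submodule F (D1 → F) :=
    { carrier := {x | ∀ y z, defc x y z = 0}
      add_mem' := by
        intro a b ha hb y z
        have h1 : defc (a + b) y z = defc a y z + defc b y z := by
          unfold defc
          simp only [DD_add_left, Matrix.add_mulVec, map_add, LinearMap.add_apply, add_smul, smul_add]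
          abel
        rw [h1, ha, hb, add_zero]
      zero_mem' := by
        intro y z
        unfold defc
        rw [DD_zero_left, DD_zero_left]
        simp
      smul_mem' := by
        intro c a ha y z
        have h1 : defc (c • a) y z = c • defc a y z := by
          unfold defc
          simp only [DD_smul_left, Matrix.smul_mulVec, map_smul, LinearMap.smul_apply, smul_eq_mul, smul_sub, smul_add,
            smul_smul]
          congr 2
          congr 2
          ring_nf
        rw [h1, ha, smul_zero] } with hW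
  have hst : ∀ g : Gh F, ∀ w ∈ W, V F g w ∈ W := by
    intro g w hw y z
    have h1 := defc_equi g w (V F g⁻¹ y) (V F g⁻¹ z)
    rw [V_inv', V_inv'] at h1
    rw [h1, hw, map_zero]
  have htop : bs F topv ∈ W := by
    intro y z
    have h1 : ∀ b c : D1, defc (bs F topv) (bs F b) (bs F c) = 0 := fun b c => by
      unfold defc
      rw [ident_top_bs, sub_self]
    have h2 : ∀ b : D1, ∀ z, defc (bs F topv) (bs F b) z = 0 := by
      intro b z
      rw [vec_sum z, defc_sum_right]
      exact Finset.sum_eq_zero fun c _ => by rw [defc_smul_right, h1, smul_zero]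
    rw [defc_swap, vec_sum y, defc_sum_right, neg_eq_zero]
    exact Finset.sum_eq_zero fun c _ => by rw [defc_smul_right, defc_swap, h2, neg_zero, smul_zero]
  have hne : W ≠ ⊥ := by
    intro h
    rw [h, Submodule.mem_bot] at htop
    have := congrFun htop topv
    rw [bs_self] at this
    exact one_ne_zero this
  have := irred hst hne
  have hx : x ∈ W := by rw [this]; trivial
  exact hx y z

/-- **the identity (I), over every field** -/
theorem ident (x y z : D1 → F) : DD F x y *ᵥ z - DD F x z *ᵥ y =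
    (2 * sf F y z) • x + sf F x z • y - sf F x y • z := sub_eq_zero.1 (defc_zero x y z)

end

end Cfsg.Agent.R2.T1.Mu
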