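import Cfsg.Agent.R2.T1.Mu.Equ

/-!
# MU27 (S5771): pure vectors and pairs of pure vectors, characteristic not 2 (helper27)

`Pure F x : DD F x x = 0`.
* `pure_eq` : a pure vector with `x m ≠ 0` and zero coordinates at the neighbours of `m` is a multiple of `bs m`;
* `pure_top` : a non-zero pure vector is conjugate to a multiple of the highest weight vector;
* `pair_symp`, `pair_orth` : normal forms of pairs.
-/

set_option autoImplicit false
set_option maxRecDepth 100000

namespace Cfsg.Agent.R2.T1.Mu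

open Cfsg Cfsg.Lie Matrix
open Cfsg.Agent.ChevalleyStructure.RootVec
open Cfsg.Agent.R2.T1 Cfsg.Agent.R2.PX
open Cfsg.Agent.H943.E7V.Block (D1 rho)

universe u
variable {F : Type u} [Field F]

/-- every weight has a neighbour -/
theorem exists_nb (m : D1) : ∃ c : D1, p2 m c = 1 := by
  by_cases hm : nn m = 238
  · obtain ⟨i, hi, a, c, h, -⟩ := down (b := m) (by rw [hm]; decide)
    exact ⟨a, p2_of_mv (simple_lt7 i hi) h⟩
  · obtain ⟨i, hi, a, c, h, -⟩ := up (b := m) hm
    refine ⟨a, ?_⟩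
    rw [p2_comm]
    exact p2_of_mv (simple_lt7 i hi) h

/-- a pure vector with a non-zero coordinate at `m` and zero coordinates at the neighbours is a multiple of the weight vector -/
theorem pure_eq (h2 : (2 : F) ≠ 0) {m : D1} {x : D1 → F} (hp : Pure F x) (hm : x m ≠ 0)
    (h0 : ∀ n, p2 n m = 1 → x n = 0) : x = x m • bs F m := by
  have key1 : ∀ b, p2 b m = -1 → x b = 0 := by
    intro b hb
    have h1 : p2 m (op b) = 1 := by rw [p2_op', p2_comm, hb]; rfl
    obtain ⟨r, hr, c, h, hc⟩ := exists_mv h1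
    have hr' : 125 - r < 126 := by omega
    have hinv : mv (125 - r) (nn m) = some (nn (op b), c) := by
      rcases mv_spec hr (op b) with h4 | ⟨a', c', h4, -, -, h5⟩
      · rw [h4] at h; exact absurd h (by simp)
      · rw [h4, Option.some.injEq, Prod.mk.injEq] at h
        rw [← nn_inj h.1, ← h.2]
        exact h5
    have e1 := Tr.DD_entry (F := F) hr h x x
    have hpp : DD F x x = 0 := hp
    rw [hpp, Matrix.zero_apply] at e1
    have e2 : sf F (NM F (125 - r) *ᵥ x) x = 0 := by
      have h4 : (-2 : F) ≠ 0 := neg_ne_zero.2 h2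
      exact (mul_eq_zero.1 ((mul_eq_zero.1 e1.symm).resolve_left h4)).resolve_right (cast_ne hc)
    have hop := mv_op hr' hinv
    rw [op_op, ep_op] at hop
    have hbm : b ≠ m := by
      rintro rfl
      rw [p2_self] at hb
      omega
    rw [sf_sum, Fintype.sum_eq_add (op b) (op m)] at e2
    · rw [NM_mulVec hr' hinv, NM_mulVec hr' hop, op_op, op_op, ep_op, ep_op] at e2
      push_cast at e2
      have h5 : (ep m : F) * (ep m : F) = 1 := by
        rw [← Int.cast_mul, ep_sq, Int.cast_one]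
      have h6 : (2 * (c : F) * (ep b : F) * x m) * x b = 0 := by
        linear_combination -e2 - (c : F) * (ep b : F) * x b * x m * h5
      exact (mul_eq_zero.1 h6).resolve_left
        (mul_ne_zero (mul_ne_zero (mul_ne_zero h2 (cast_ne hc)) (cast_ne (ep_sq b))) hm)
    · intro h4
      have h5 := congrArg op h4
      rw [op_op, op_op] at h5
      exact hbm h5
    · intro a ha
      by_contra hne
      have ha1 : (NM F (125 - r) *ᵥ x) a ≠ 0 := left_ne_zero_of_mul hne
      obtain ⟨b', c', h4, h5⟩ := NM_mulVec_ne ha1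
      have h6 := Tr.grade hr' hinv h4
      rcases p2_cases b' m with h7 | h7 | h7 | h7
      · have h8 := p2_eq_three.1 h7
        rw [h8, hinv, Option.some.injEq, Prod.mk.injEq] at h4
        exact ha.1 (nn_inj h4.1).symm
      · exact h5 (h0 b' h7)
      · have h8 : p2 m a = -3 := by rw [p2_comm]; omega
        exact ha.2 (p2_eq_neg_three.1 h8)
      · rcases p2_cases a m with h8 | h8 | h8 | h8 <;> omega
  have key2 : x (op m) = 0 := by
    obtain ⟨c, hc⟩ := exists_nb m
    have e1 := Tr.DD_diag (F := F) x x c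
    have hpp : DD F x x = 0 := hp
    rw [hpp, Matrix.zero_apply, Fintype.sum_eq_add m (op m) (ne_op m)] at e1
    · rw [op_op, ep_op, p2_op, hc] at e1
      push_cast at e1
      have h6 : (2 * (ep m : F) * x m) * x (op m) = 0 := by
        linear_combination e1
      exact (mul_eq_zero.1 h6).resolve_left (mul_ne_zero (mul_ne_zero h2 (cast_ne (ep_sq m))) hm)
    · intro a ha
      by_contra hne
      have ha1 : x a ≠ 0 := left_ne_zero_of_mul (left_ne_zero_of_mul (left_ne_zero_of_mul hne))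
      rcases p2_cases a m with h8 | h8 | h8 | h8
      · exact ha.1 (p2_eq_three.1 h8)
      · exact ha1 (h0 a h8)
      · exact ha1 (key1 a h8)
      · rw [p2_comm] at h8
        exact ha.2 (p2_eq_neg_three.1 h8)
  funext a
  rw [Pi.smul_apply, smul_eq_mul]
  by_cases ha : a = m
  · rw [ha, bs_self, mul_one]
  · rw [PX.bs_ne ha, mul_zero]
    rcases p2_cases a m with h8 | h8 | h8 | h8
    · exact absurd (p2_eq_three.1 h8) ha
    · exact h0 a h8
    · exact key1 a h8
    · rw [p2_comm] at h8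
      rw [p2_eq_neg_three.1 h8]
      exact key2

theorem pure_V {x : D1 → F} (hp : Pure F x) (g : Gh F) : Pure F (V F g x) := Tr.pure_V (equi F) hp g

theorem pure_V_iff {x : D1 → F} (g : Gh F) : Pure F (V F g x) ↔ Pure F x := Tr.DD_V (equi F) g

theorem pure_zero : Pure F (0 : D1 → F) := DD_zero_left 0

theorem pure_smul {x : D1 → F} (hp : Pure F x) (c : F) : Pure F (c • x) := by
  show DD F (c • x) (c • x) = 0
  rw [DD_smul_left, DD_smul_right, show DD F x x = 0 from hp, smul_zero, smul_zero]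

theorem DD_V_iff {x y : D1 → F} (g : Gh F) : DD F (V F g x) (V F g y) = 0 ↔ DD F x y = 0 := Tr.DD_V (equi F) g

/-- a non-zero pure vector is conjugate to a multiple of the highest weight vector -/
theorem pure_top (h2 : (2 : F) ≠ 0) {x : D1 → F} (hp : Pure F x) (hx : x ≠ 0) :
    ∃ (g : Gh F) (c : F), c ≠ 0 ∧ V F g x = c • bs F topv := by
  classical
  obtain ⟨g, hg⟩ := Tr.exists_coord hx topv
  obtain ⟨g', -, h4, h5, -⟩ := Tr.clear ⊤ topv hg (Finset.univ.filter fun n => p2 n topv = 1)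
    (fun n hn => ⟨(Finset.mem_filter.1 hn).2, fun _ _ _ _ _ => Subgroup.mem_top _⟩)
  refine ⟨g' * g, V F (g' * g) x topv, ?_, ?_⟩
  · rw [map_mul, Module.End.mul_apply, h4]
    exact hg
  · refine pure_eq h2 (pure_V hp _) ?_ fun n hn => ?_
    · rw [map_mul, Module.End.mul_apply, h4]
      exact hg
    · rw [map_mul, Module.End.mul_apply]
      exact h5 n (Finset.mem_filter.2 ⟨Finset.mem_univ _, hn⟩)

/-- the values of `DD` with the highest weight vector -/
theorem top_zero (h2 : (2 : F) ≠ 0) {y : D1 → F} (h : DD F (bs F topv) y = 0) :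
    (∀ b, p2 b topv = -1 → y b = 0) ∧ y (op topv) = 0 := by
  constructor
  · intro b hb
    have h1 : p2 topv (op b) = 1 := by rw [p2_op', p2_comm, hb]; rfl
    obtain ⟨r, hr, c, h4, hc⟩ := exists_mv h1
    have hr' : 125 - r < 126 := by omega
    have hinv : mv (125 - r) (nn topv) = some (nn (op b), c) := by
      rcases mv_spec hr (op b) with h5 | ⟨a', c', h5, -, -, h6⟩
      · rw [h5] at h4; exact absurd h4 (by simp)
      · rw [h5, Option.some.injEq, Prod.mk.injEq] at h4
        rw [← nn_inj h4.1, ← h4.2]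
        exact h6
    have e1 := Tr.DD_entry (F := F) hr h4 (bs F topv) y
    have e2 := NM_bs_some (F := F) hinv
    rw [h, Matrix.zero_apply, e2, map_smul, LinearMap.smul_apply, sf_single, op_op, smul_eq_mul] at e1
    have e3 : (-2 * ((c : F) * ((ep (op b) : ℤ) : F)) * (c : F)) * y b = 0 := by linear_combination -e1
    exact (mul_eq_zero.1 e3).resolve_left (mul_ne_zero (mul_ne_zero (neg_ne_zero.2 h2) (mul_ne_zero (cast_ne hc)
      (cast_ne (ep_sq _)))) (cast_ne hc))
  · obtain ⟨c, hc⟩ := exists_nb topv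
    have e1 := Tr.DD_diag (F := F) (bs F topv) y c
    rw [h, Matrix.zero_apply, Finset.sum_eq_single topv] at e1
    · rw [bs_self, hc] at e1
      push_cast at e1
      have e3 : (((ep topv : ℤ) : F)) * y (op topv) = 0 := by linear_combination e1
      exact (mul_eq_zero.1 e3).resolve_left (cast_ne (ep_sq _))
    · intro a _ ha
      rw [PX.bs_ne ha]
      ring
    · intro h4
      exact absurd (Finset.mem_univ _) h4

theorem inv_V (g : Gh F) (v : D1 → F) : V F g⁻¹ (V F g v) = v := by
  rw [← Module.End.mul_apply, ← map_mul, inv_mul_cancel, map_one]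
  rfl

/-- **symplectic pairs** -/
theorem pair_symp (h2 : (2 : F) ≠ 0) {x y : D1 → F} (hx : Pure F x) (hy : Pure F y) (hxy : sf F x y = 0)
    (hD : DD F x y ≠ 0) : ∃ (g : Gh F) (c d : F), c ≠ 0 ∧ d ≠ 0 ∧ V F g x = c • bs F topv ∧ V F g y = d • bs F w1 := by
  classical
  have hx0 : x ≠ 0 := by
    rintro rfl
    exact hD (DD_zero_left y)
  obtain ⟨g1, c, hc, e1⟩ := pure_top h2 hx hx0
  have e2 : V F g1 y (op topv) = 0 := by
    have h4 := sf_V g1 x y
    rw [e1, hxy, map_smul, LinearMap.smul_apply, Tr.sf_top, smul_eq_mul] at h4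
    exact (mul_eq_zero.1 ((mul_eq_zero.1 h4).resolve_left hc)).resolve_left (cast_ne (ep_sq _))
  have e3 : DD F (bs F topv) (V F g1 y) ≠ 0 := by
    intro h4
    apply hD
    rw [← DD_V_iff g1, e1, DD_smul_left, h4, smul_zero]
  obtain ⟨b, hb, hb'⟩ : ∃ b, p2 b topv = -1 ∧ V F g1 y b ≠ 0 := by
    by_contra hcon
    push Not at hcon
    exact e3 (Tr.DD_top_zero hcon e2)
  obtain ⟨g2, hg2, e4⟩ := Tr.move Tr.p2_w1 Tr.chkW1 hb hb'
  have e5 := Tr.sym_zero (equi F) hg2 e2
  obtain ⟨g3, hg3, e6, e7, -⟩ := Tr.clear (Tr.P F) w1 e4 (Finset.univ.filter fun n => p2 n w1 = 1 ∧ n ≠ op topv) (by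
    intro n hn
    obtain ⟨-, hn1, hn2⟩ := Finset.mem_filter.1 hn
    refine ⟨hn1, fun r hr c' hm t => Tr.xs_mem hr (fun h4 => hn2 ?_) t⟩
    have h5 := p2_add hr hm topv
    rw [Tr.p2_w1, h4] at h5
    rw [p2_comm] at h5
    exact p2_eq_neg_three.1 (by omega))
  have e8 := Tr.sym_zero (equi F) hg3 e5
  refine ⟨g3 * (g2 * g1), c, V F g3 (V F g2 (V F g1 y)) w1, hc, ?_, ?_, ?_⟩
  · rw [e6]
    exact e4
  · rw [map_mul, map_mul, Module.End.mul_apply, Module.End.mul_apply, e1, map_smul, map_smul, Tr.mem_P.1 hg2,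
      Tr.mem_P.1 hg3]
  · rw [map_mul, map_mul, Module.End.mul_apply, Module.End.mul_apply]
    refine pure_eq h2 (pure_V (pure_V (pure_V hy _) _) _) (by rw [e6]; exact e4) fun n hn => ?_
    by_cases hn' : n = op topv
    · rw [hn']; exact e8
    · exact e7 n (Finset.mem_filter.2 ⟨Finset.mem_univ _, hn, hn'⟩)

/-- **orthogonal pairs** -/
theorem pair_orth (h2 : (2 : F) ≠ 0) {x y : D1 → F} (hx : Pure F x) (hy : Pure F y) (hx0 : x ≠ 0)
    (hxy : ∀ c : F, y ≠ c • x) (hD : DD F x y = 0) :
    ∃ (g : Gh F) (c d : F), c ≠ 0 ∧ d ≠ 0 ∧ V F g x = c • bs F topv ∧ V F g y = d • bs F w2 := by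
  classical
  obtain ⟨g1, c, hc, e1⟩ := pure_top h2 hx hx0
  have e3 : DD F (bs F topv) (V F g1 y) = 0 := by
    have h4 := (DD_V_iff (x := x) (y := y) g1).2 hD
    rw [e1, DD_smul_left] at h4
    exact (smul_eq_zero.1 h4).resolve_left hc
  have pers : ∀ g ∈ Tr.P F, DD F (bs F topv) (V F g (V F g1 y)) = 0 := by
    intro g hg
    have h4 := (DD_V_iff (x := bs F topv) (y := V F g1 y) g).2 e3
    rwa [Tr.mem_P.1 hg] at h4
  obtain ⟨z1, z2⟩ := top_zero h2 e3
  obtain ⟨b, hb, hb'⟩ : ∃ b, p2 b topv = 1 ∧ V F g1 y b ≠ 0 := by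
    by_contra hcon
    push Not at hcon
    have h4 : V F g1 y = (V F g1 y topv) • bs F topv := by
      funext a
      rw [Pi.smul_apply, smul_eq_mul]
      rcases p2_cases a topv with h5 | h5 | h5 | h5
      · rw [p2_eq_three.1 h5, bs_self, mul_one]
      · have hne : a ≠ topv := by
          rintro rfl
          rw [p2_self] at h5
          omega
        rw [PX.bs_ne hne, mul_zero, hcon a h5]
      · have hne : a ≠ topv := by
          rintro rfl
          rw [p2_self] at h5
          omega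
        rw [PX.bs_ne hne, mul_zero, z1 a h5]
      · have hne : a ≠ topv := by
          rintro rfl
          rw [p2_self] at h5
          omega
        rw [p2_comm] at h5
        rw [PX.bs_ne hne, mul_zero, p2_eq_neg_three.1 h5, z2]
    apply hxy (V F g1 y topv / c)
    have h5 : V F g1 y = V F g1 ((V F g1 y topv / c) • x) := by
      rw [map_smul, e1, smul_smul, div_mul_cancel₀ _ hc]
      exact h4
    have h6 := congrArg (V F g1⁻¹) h5
    rwa [inv_V, inv_V] at h6
  obtain ⟨g2, hg2, e4⟩ := Tr.move Tr.p2_w2 Tr.chkW2 hb hb'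
  obtain ⟨g3, hg3, e6, e7, -⟩ := Tr.clear (Tr.P F) w2 e4 (Finset.univ.filter fun n => p2 n w2 = 1 ∧ (p2 n topv = 1 ∨ n = topv)) (by
    intro n hn
    obtain ⟨-, hn1, hn2⟩ := Finset.mem_filter.1 hn
    refine ⟨hn1, fun r hr c' hm t => Tr.xs_mem hr (fun h4 => ?_) t⟩
    have h5 := p2_add hr hm topv
    rw [Tr.p2_w2, h4] at h5
    rcases hn2 with h6 | h6
    · omega
    · rw [h6, p2_self] at h5
      omega)
  obtain ⟨y1, y2⟩ := top_zero h2 (pers _ ((Tr.P F).mul_mem hg3 hg2))
  rw [map_mul, Module.End.mul_apply] at y1 y2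
  refine ⟨g3 * (g2 * g1), c, V F g3 (V F g2 (V F g1 y)) w2, hc, ?_, ?_, ?_⟩
  · rw [e6]
    exact e4
  · rw [map_mul, map_mul, Module.End.mul_apply, Module.End.mul_apply, e1, map_smul, map_smul, Tr.mem_P.1 hg2,
      Tr.mem_P.1 hg3]
  · rw [map_mul, map_mul, Module.End.mul_apply, Module.End.mul_apply]
    refine pure_eq h2 (pure_V (pure_V (pure_V hy _) _) _) (by rw [e6]; exact e4) fun n hn => ?_
    rcases p2_cases n topv with h5 | h5 | h5 | h5
    · exact e7 n (Finset.mem_filter.2 ⟨Finset.mem_univ _, hn, Or.inr (p2_eq_three.1 h5)⟩)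
    · exact e7 n (Finset.mem_filter.2 ⟨Finset.mem_univ _, hn, Or.inl h5⟩)
    · exact y1 n h5
    · rw [p2_comm] at h5
      rw [p2_eq_neg_three.1 h5]
      exact y2

end Cfsg.Agent.R2.T1.Mu
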