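import Cfsg.Agent.R2.T1.Mu.Pure
import Cfsg.Agent.R2.T1.Inf.Desc

/-!
# MU27 (S5771): root elements of the Lie algebra as `DD x y` of a symplectic pure pair (helper27)

* `IsRt m` : `m = k • g N_r g⁻¹`;
* `IsRt.sq`, `IsRt.exp`, `IsRt.pair` (`DD z z' ∈ F m` for `z, z'` in the image of `m`);
* `IsRt.of_pair` : `DD F x y` for `x, y` pure, `sf x y = 0`, `DD x y ≠ 0`; `x`, `y` are in the image of `DD x y`;
* `DD_emb`, `sf_emb`, `exp_desc`.
-/

set_option autoImplicit false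
set_option maxRecDepth 100000

namespace Cfsg.Agent.R2.T1.Mu

open Cfsg Cfsg.Lie Matrix Module
open Cfsg.Agent.ChevalleyStructure.RootVec
open Cfsg.Agent.R2.T1 Cfsg.Agent.R2.PX
open Cfsg.Agent.H943.E7V.Block (D1 rho)

universe u v
section
variable {F : Type u} [Field F]

/-! ### combinatorics of a root -/

theorem pr_of_mv {r : ℕ} (hr : r < 126) {a b : D1} {c : ℤ} (h : mv r (nn b) = some (nn a, c)) :
    Comb.pr r a = 1 ∧ Comb.pr r b = -1 := by
  have h1 := p2_add hr h a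
  have h2 := p2_add hr h b
  have h3 := p2_of_mv hr h
  rw [p2_self] at h1 h2
  rw [p2_comm b a, h3] at h1
  rw [h3] at h2
  constructor <;> omega

/-- the values of `DD` on two weight vectors in the image of `N_r` -/
theorem DD_im {r : ℕ} (hr : r < 126) {a a' b b' : D1} {c c' : ℤ} (h : mv r (nn b) = some (nn a, c))
    (h' : mv r (nn b') = some (nn a', c')) : ∃ k : F, DD F (bs F a) (bs F a') = k • NM F r := by
  have hp := pr_of_mv hr h
  have hp' := pr_of_mv hr h'
  -- `r` moves `op a'`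
  have hop := mv_op hr h'
  have hpo := pr_of_mv hr hop
  by_cases h0 : a' = op a
  · exfalso
    rw [h0, op_op] at hpo
    rw [hpo.2] at hp
    omega
  by_cases h1 : ∃ s < 126, ∃ e, mv s (nn a) = some (nn (op a'), e)
  · obtain ⟨s, hs, e, he⟩ := h1
    -- then `125 - s` moves `op a'` to `a`
    have hs' : 125 - s < 126 := by omega
    have hinv : mv (125 - s) (nn (op a')) = some (nn a, e) := by
      rcases mv_spec hs a with h5 | ⟨x, y, h5, -, -, h6⟩
      · rw [h5] at he; exact absurd he (by simp)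
      · rw [h5, Option.some.injEq, Prod.mk.injEq] at he
        rw [← nn_inj he.1, ← he.2]
        exact h6
    have h2 := p2_add hr hop a
    rw [hp.1] at h2
    have h3 := p2_of_mv hs' hinv
    rw [p2_comm] at h3
    rw [h3] at h2
    have h4 : op b' = a := p2_eq_three.1 (by omega)
    rw [h4] at hop
    have h5 : 125 - s = r := mv_unique hs' hr hinv hop
    have h6 := Tr.DD_bs (F := F) hr hop
    rw [op_op] at h6
    exact ⟨_, h6⟩
  · refine ⟨0, ?_⟩
    rw [zero_smul]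
    exact DD_bs_zero h0 fun s hs e he => h1 ⟨s, hs, e, he⟩

theorem NM_bs_im {r : ℕ} (hr : r < 126) (b : D1) : NM F r *ᵥ bs F b = 0 ∨ ∃ (a : D1) (c : ℤ), mv r (nn b) = some (nn a, c) ∧
    c * c = 1 ∧ NM F r *ᵥ bs F b = (c : F) • bs F a := by
  rcases mv_spec hr b with h | ⟨a, c, h, hc, -, -⟩
  · exact Or.inl (NM_bs_none h)
  · exact Or.inr ⟨a, c, h, hc, NM_bs_some h⟩

/-- the values of `DD` on the image of `N_r` -/
theorem DD_NM {r : ℕ} (hr : r < 126) (u v : D1 → F) : ∃ k : F, DD F (NM F r *ᵥ u) (NM F r *ᵥ v) = k • NM F r := by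
  have h1 : ∀ a b : D1, DD F (NM F r *ᵥ bs F a) (NM F r *ᵥ bs F b) ∈ Submodule.span F {NM F r} := by
    intro a b
    rcases NM_bs_im (F := F) hr a with h | ⟨a', c, h, -, h'⟩
    · rw [h, DD_zero_left]; exact Submodule.zero_mem _
    · rcases NM_bs_im (F := F) hr b with g | ⟨b', d, g, -, g'⟩
      · rw [g, DD_zero_right]; exact Submodule.zero_mem _
      · rw [h', g', DD_smul_left, DD_smul_right]
        obtain ⟨k, hk⟩ := DD_im (F := F) hr h g
        rw [hk]
        exact Submodule.smul_mem _ _ (Submodule.smul_mem _ _ (Submodule.smul_mem _ _ (Submodule.subset_span rfl)))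
  have h2 : DD F (NM F r *ᵥ u) (NM F r *ᵥ v) ∈ Submodule.span F {NM F r} := by
    rw [vec_sum u, vec_sum v, Matrix.mulVec_sum, Matrix.mulVec_sum, DD_sum_left]
    refine Submodule.sum_mem _ fun a _ => ?_
    rw [DD_sum_right]
    refine Submodule.sum_mem _ fun b _ => ?_
    rw [Matrix.mulVec_smul, Matrix.mulVec_smul, DD_smul_left, DD_smul_right]
    exact Submodule.smul_mem _ _ (Submodule.smul_mem _ _ (h1 a b))
  obtain ⟨k, hk⟩ := Submodule.mem_span_singleton.1 h2
  exact ⟨k, hk.symm⟩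

/-! ### root elements -/

/-- multiples of the conjugates of the root vectors -/
def IsRt (m : Matrix D1 D1 F) : Prop := ∃ (g : Gh F) (r : ℕ) (k : F), r < 126 ∧ k ≠ 0 ∧
  m = k • (rho F g * NM F r * rho F g⁻¹)

theorem rho_mul_inv' (g : Gh F) : rho F g * rho F g⁻¹ = 1 := by rw [← map_mul, mul_inv_cancel, map_one]
theorem rho_inv_mul' (g : Gh F) : rho F g⁻¹ * rho F g = 1 := by rw [← map_mul, inv_mul_cancel, map_one]

theorem IsRt.of_NM {r : ℕ} (hr : r < 126) : IsRt (NM F r) :=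
  ⟨1, r, 1, hr, one_ne_zero, by rw [inv_one, map_one, Matrix.one_mul, Matrix.mul_one, one_smul]⟩

theorem IsRt.smul {m : Matrix D1 D1 F} (h : IsRt m) {c : F} (hc : c ≠ 0) : IsRt (c • m) := by
  obtain ⟨g, r, k, hr, hk, rfl⟩ := h
  exact ⟨g, r, c * k, hr, mul_ne_zero hc hk, by rw [smul_smul]⟩

theorem IsRt.conj {m : Matrix D1 D1 F} (h : IsRt m) (g : Gh F) : IsRt (rho F g * m * rho F g⁻¹) := by
  obtain ⟨h, r, k, hr, hk, rfl⟩ := h
  refine ⟨g * h, r, k, hr, hk, ?_⟩
  rw [map_mul, _root_.mul_inv_rev, map_mul, Matrix.mul_smul, Matrix.smul_mul]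
  simp only [Matrix.mul_assoc]

theorem IsRt.ne {m : Matrix D1 D1 F} (h : IsRt m) : m ≠ 0 := by
  obtain ⟨g, r, k, hr, hk, rfl⟩ := h
  intro h0
  have h1 := (smul_eq_zero.1 h0).resolve_left hk
  obtain ⟨a, b, c, hm, hc⟩ := Tr.exists_entry hr
  apply Tr.NM_ne (F := F) hm hc
  calc NM F r = rho F g⁻¹ * (rho F g * NM F r * rho F g⁻¹) * rho F g := by
        rw [Matrix.mul_assoc, Matrix.mul_assoc, rho_inv_mul', Matrix.mul_one, ← Matrix.mul_assoc, rho_inv_mul',
          Matrix.one_mul]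
    _ = 0 := by rw [h1, Matrix.mul_zero, Matrix.zero_mul]

theorem IsRt.sq {m : Matrix D1 D1 F} (h : IsRt m) : m * m = 0 := by
  obtain ⟨g, r, k, hr, hk, rfl⟩ := h
  rw [Matrix.smul_mul, Matrix.mul_smul]
  have : rho F g * NM F r * rho F g⁻¹ * (rho F g * NM F r * rho F g⁻¹) = 0 := by
    calc rho F g * NM F r * rho F g⁻¹ * (rho F g * NM F r * rho F g⁻¹)
        = rho F g * NM F r * (rho F g⁻¹ * rho F g) * (NM F r * rho F g⁻¹) := by simp only [Matrix.mul_assoc]
      _ = rho F g * (NM F r * NM F r) * rho F g⁻¹ := by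
        rw [rho_inv_mul', Matrix.mul_one]; simp only [Matrix.mul_assoc]
      _ = 0 := by rw [NM_mul_self hr, Matrix.mul_zero, Matrix.zero_mul]
  rw [this, smul_zero, smul_zero]

/-- `1 + t m` is in the image of the group -/
theorem IsRt.exp {m : Matrix D1 D1 F} (h : IsRt m) (t : F) : ∃ z : Gh F, rho F z = 1 + t • m := by
  obtain ⟨g, r, k, hr, hk, rfl⟩ := h
  refine ⟨g * xs F r (t * k) * g⁻¹, ?_⟩
  rw [map_mul, map_mul, rho_xs' hr, Matrix.mul_add, Matrix.mul_one, Matrix.add_mul, rho_mul_inv', smul_smul,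
    Matrix.mul_smul, Matrix.smul_mul]

/-- `DD` on the image of a root element -/
theorem IsRt.pair {m : Matrix D1 D1 F} (h : IsRt m) (u v : D1 → F) : ∃ k : F, DD F (m *ᵥ u) (m *ᵥ v) = k • m := by
  obtain ⟨g, r, k, hr, hk, rfl⟩ := h
  have e : ∀ u : D1 → F, (k • (rho F g * NM F r * rho F g⁻¹)) *ᵥ u = V F g (NM F r *ᵥ (k • V F g⁻¹ u)) := by
    intro u
    rw [Matrix.smul_mulVec, ← Matrix.mulVec_mulVec, ← Matrix.mulVec_mulVec, Matrix.mulVec_smul, map_smul]
    rfl
  obtain ⟨l, hl⟩ := DD_NM (F := F) hr (k • V F g⁻¹ u) (k • V F g⁻¹ v)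
  refine ⟨l / k, ?_⟩
  rw [e, e, DD_conj, hl, smul_smul, div_mul_cancel₀ _ hk, Matrix.mul_smul, Matrix.smul_mul]

theorem IsRt.skew_iff {m : Matrix D1 D1 F} (h : IsRt m) (u v : D1 → F) : sf F (m *ᵥ u) v = - sf F u (m *ᵥ v) := by
  obtain ⟨g, r, k, hr, hk, rfl⟩ := h
  have e : ∀ u : D1 → F, (k • (rho F g * NM F r * rho F g⁻¹)) *ᵥ u = k • V F g (NM F r *ᵥ V F g⁻¹ u) := by
    intro u
    rw [Matrix.smul_mulVec, ← Matrix.mulVec_mulVec, ← Matrix.mulVec_mulVec]
    rfl
  rw [e, e, map_smul, map_smul, LinearMap.smul_apply]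
  have h1 : sf F (V F g (NM F r *ᵥ V F g⁻¹ u)) v = sf F (NM F r *ᵥ V F g⁻¹ u) (V F g⁻¹ v) := by
    rw [← sf_V g⁻¹, inv_V]
  have h2 : sf F u (V F g (NM F r *ᵥ V F g⁻¹ v)) = sf F (V F g⁻¹ u) (NM F r *ᵥ V F g⁻¹ v) := by
    rw [← sf_V g⁻¹, inv_V]
  rw [h1, h2, sf_NM hr, smul_neg]

theorem op_w1_mv : ∃ r < 126, ∃ c : ℤ, mv r (nn (op w1)) = some (nn topv, c) ∧ c * c = 1 :=
  exists_mv (by rw [p2_op', p2_comm, Tr.p2_w1]; rfl)

/-- **`DD x y` of a symplectic pure pair** -/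
theorem IsRt.of_pair (h2 : (2 : F) ≠ 0) {x y : D1 → F} (hx : Pure F x) (hy : Pure F y) (hxy : sf F x y = 0)
    (hD : DD F x y ≠ 0) : IsRt (DD F x y) ∧ (∃ u, x = DD F x y *ᵥ u) ∧ ∃ u, y = DD F x y *ᵥ u := by
  obtain ⟨g, c, d, hc, hd, e1, e2⟩ := pair_symp h2 hx hy hxy hD
  obtain ⟨r, hr, e, he, hee⟩ := op_w1_mv
  have h3 := Tr.DD_bs (F := F) hr he
  rw [op_op] at h3
  set k : F := -2 * ((e : F) * ((ep (op w1) : ℤ) : F)) with hk
  have hk0 : k ≠ 0 := mul_ne_zero (neg_ne_zero.2 h2) (mul_ne_zero (cast_ne hee) (cast_ne (ep_sq _)))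
  have h4 : DD F (V F g x) (V F g y) = (c * d * k) • NM F r := by
    rw [e1, e2, DD_smul_left, DD_smul_right, h3, smul_smul, smul_smul, mul_assoc]
  have hcd : c * d * k ≠ 0 := mul_ne_zero (mul_ne_zero hc hd) hk0
  have h5 : DD F x y = (c * d * k) • (rho F g⁻¹ * NM F r * rho F (g⁻¹)⁻¹) := by
    have h6 := DD_conj g⁻¹ (V F g x) (V F g y)
    rw [inv_V, inv_V, h4, Matrix.mul_smul, Matrix.smul_mul] at h6
    exact h6
  have h6 : ∀ w u : D1 → F, V F g w = NM F r *ᵥ u → w = DD F x y *ᵥ ((c * d * k)⁻¹ • V F g⁻¹ u) := by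
    intro w u h
    rw [h5, inv_inv, Matrix.smul_mulVec, Matrix.mulVec_smul, smul_smul, mul_inv_cancel₀ hcd, one_smul,
      ← Matrix.mulVec_mulVec, ← Matrix.mulVec_mulVec]
    have h7 : rho F g *ᵥ (V F g⁻¹ u) = u := by
      show V F g (V F g⁻¹ u) = u
      rw [← Module.End.mul_apply, ← map_mul, mul_inv_cancel, map_one]; rfl
    rw [h7, ← h]
    exact (inv_V g w).symm
  refine ⟨⟨g⁻¹, r, c * d * k, hr, hcd, h5⟩, ⟨_, h6 x ((c * (e : F)⁻¹) • bs F (op w1)) ?_⟩,
    ⟨_, h6 y ((d * ((-(e * ep topv * ep (op w1)) : ℤ) : F)⁻¹) • bs F (op topv)) ?_⟩⟩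
  · rw [e1, Matrix.mulVec_smul, NM_bs_some he, smul_smul, mul_assoc, inv_mul_cancel₀ (cast_ne hee), mul_one]
  · have h8 := mv_op hr he
    rw [op_op] at h8
    have h9 : (-(e * ep topv * ep (op w1))) * (-(e * ep topv * ep (op w1))) = 1 := by
      have := ep_sq topv
      have := ep_sq (op w1)
      calc (-(e * ep topv * ep (op w1))) * (-(e * ep topv * ep (op w1)))
          = (e * e) * (ep topv * ep topv) * (ep (op w1) * ep (op w1)) := by ring
        _ = 1 := by rw [hee, ep_sq, ep_sq]; rfl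
    rw [e2, Matrix.mulVec_smul, NM_bs_some h8, smul_smul, mul_assoc, inv_mul_cancel₀ (cast_ne h9), mul_one]

/-- root elements have rank 12: the image is spanned by 12 weight vectors; `Pure` on it -/
theorem IsRt.pure {m : Matrix D1 D1 F} (h : IsRt m) : ∃ x y : D1 → F, Pure F x ∧ Pure F y ∧ sf F x y = 0 ∧
    ((2 : F) ≠ 0 → ∃ k : F, k ≠ 0 ∧ DD F x y = k • m) := by
  obtain ⟨g, r, k, hr, hk, rfl⟩ := h
  obtain ⟨a, b, c, hm, hc⟩ := Tr.exists_entry hr
  refine ⟨V F g (bs F a), V F g (bs F (op b)), pure_V (Tr.bs_pure a) g, pure_V (Tr.bs_pure (op b)) g, ?_, ?_⟩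
  · rw [sf_V, sf_bs_bs, if_neg]
    intro h
    have h1 := congrArg op h
    rw [op_op, op_op] at h1
    have h3 := p2_of_mv hr hm
    rw [← h1, p2_self] at h3
    omega
  · intro h2
    have h3 := Tr.DD_bs (F := F) hr hm
    refine ⟨(-2 * ((c : F) * ((ep b : ℤ) : F))) / k, div_ne_zero (mul_ne_zero (neg_ne_zero.2 h2)
      (mul_ne_zero (cast_ne hc) (cast_ne (ep_sq _)))) hk, ?_⟩
    rw [DD_conj, h3, Matrix.mul_smul, Matrix.smul_mul, smul_smul, div_mul_cancel₀ _ hk]

end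

/-! ### extension of scalars -/

section
variable {F : Type u} {K : Type v} [Field F] [Field K] (f : F →+* K)

theorem NM_map (r : ℕ) : (NM F r).map f = NM K r := by
  ext a b
  rw [Matrix.map_apply]
  show f ((nz r a b : ℤ) : F) = ((nz r a b : ℤ) : K)
  rw [map_intCast]

theorem NM_emb (r : ℕ) (x : D1 → F) : NM K r *ᵥ (fun i => f (x i)) = fun i => f ((NM F r *ᵥ x) i) := by
  funext a
  rw [← NM_map f, Matrix.mulVec, Matrix.mulVec, dotProduct, dotProduct, map_sum]
  exact Finset.sum_congr rfl fun b _ => by rw [Matrix.map_apply, map_mul]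

theorem sf_emb (x y : D1 → F) : sf K (fun i => f (x i)) (fun i => f (y i)) = f (sf F x y) := by
  rw [sf_sum, sf_sum, map_sum]
  exact Finset.sum_congr rfl fun a _ => by rw [map_mul, map_mul, map_intCast]

theorem DD_emb (x y : D1 → F) : DD K (fun i => f (x i)) (fun i => f (y i)) = (DD F x y).map f := by
  ext b c
  rw [DD_eq, Matrix.map_apply, DD_eq, Matrix.sub_apply, Matrix.sub_apply, map_sub]
  congr 1
  · rw [Matrix.smul_apply, Matrix.smul_apply, smul_eq_mul, smul_eq_mul, map_mul, Matrix.sum_apply, Matrix.sum_apply,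
      map_sum]
    congr 1
    · rw [map_neg]; congr 1; exact (map_ofNat f 2).symm
    · refine Finset.sum_congr rfl fun r _ => ?_
      rw [Matrix.smul_apply, Matrix.smul_apply, smul_eq_mul, smul_eq_mul, map_mul, NM_emb, sf_emb, ← NM_map f,
        Matrix.map_apply]
  · by_cases hbc : b = c
    · rw [hbc, Matrix.diagonal_apply_eq, Matrix.diagonal_apply_eq, map_sum]
      refine Finset.sum_congr rfl fun a _ => ?_
      rw [map_mul, map_mul, map_mul, map_intCast, map_intCast]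
    · rw [Matrix.diagonal_apply_ne _ hbc, Matrix.diagonal_apply_ne _ hbc, map_zero]

theorem pure_emb {x : D1 → F} : Pure K (fun i => f (x i)) ↔ Pure F x := by
  show DD K _ _ = 0 ↔ DD F x x = 0
  rw [DD_emb]
  constructor
  · intro h
    ext a b
    have := congrFun (congrFun h a) b
    rw [Matrix.map_apply, Matrix.zero_apply] at this
    rw [Matrix.zero_apply]
    exact (map_eq_zero f).1 this
  · intro h
    rw [h]
    exact Matrix.map_zero _ (map_zero f)

end

section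
variable {F : Type u} {K : Type u} [Field F] [Field K] (f : F →+* K)

/-- a rational root element of the extension exponentiates to rational elements -/
theorem exp_desc [IsAlgClosed K] [Finite F] {m : Matrix D1 D1 F} (hm : IsRt (m.map f)) (t : F) :
    ∃ z : Gh F, rho F z = 1 + t • m := by
  obtain ⟨z, hz⟩ := hm.exp (f t)
  have h : rho K z = (1 + t • m).map f := by
    rw [hz]
    ext a b
    rw [Matrix.map_apply, Matrix.add_apply, Matrix.add_apply, map_add, Matrix.smul_apply, Matrix.smul_apply,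
      Matrix.map_apply, smul_eq_mul, smul_eq_mul, map_mul]
    congr 1
    rw [Matrix.one_apply, Matrix.one_apply]
    split_ifs <;> simp
  obtain ⟨z0, -, h0⟩ := exists_of_rho f h
  exact ⟨z0, h0⟩

end

end Cfsg.Agent.R2.T1.Mu
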